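import Cfsg.Agent.Lib.Helper25.O496.Base

set_option autoImplicit false
set_option maxHeartbeats 4000000
set_option maxRecDepth 100000

namespace Cfsg.Agent.Lib.Helper25.O496

theorem chunk0 {G : Type*} [Group G] [Finite G] [IsSimpleGroup G] (hG : ¬ IsMulCommutative G)
    (n : ℕ) (hn : Nat.card G = n) (h1 : 101 ≤ n) (h2 : n ≤ 200) :
    n ∈ ([168, 360, 420, 504, 612, 660, 720, 756, 840, 900, 924, 960, 1092] : List ℕ) := by
  interval_cases n
  · exact (noB hG 101 2 1 0 (by norm_num) (by norm_num) (by rw [hn]; norm_num)).elim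
  · exact (noM4 (G := G) 102 hn (by norm_num) (by norm_num)).elim
  · exact (noB hG 103 2 1 0 (by norm_num) (by norm_num) (by rw [hn]; norm_num)).elim
  · exact (noB hG 2 13 3 1 (by norm_num) (by norm_num) (by rw [hn]; norm_num)).elim
  · exact (noC73 hG 105 3 hn (by norm_num) (by norm_num) (by norm_num)).elim
  · exact (noB hG 2 53 1 1 (by norm_num) (by norm_num) (by rw [hn]; norm_num)).elim
  · exact (noB hG 107 2 1 0 (by norm_num) (by norm_num) (by rw [hn]; norm_num)).elim
  · exact (noB hG 2 3 2 3 (by norm_num) (by norm_num) (by rw [hn]; norm_num)).elim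
  · exact (noB hG 109 2 1 0 (by norm_num) (by norm_num) (by rw [hn]; norm_num)).elim
  · exact (noM4 (G := G) 110 hn (by norm_num) (by norm_num)).elim
  · exact (noB hG 3 37 1 1 (by norm_num) (by norm_num) (by rw [hn]; norm_num)).elim
  · exact (noB hG 2 7 4 1 (by norm_num) (by norm_num) (by rw [hn]; norm_num)).elim
  · exact (noB hG 113 2 1 0 (by norm_num) (by norm_num) (by rw [hn]; norm_num)).elim
  · exact (noM4 (G := G) 114 hn (by norm_num) (by norm_num)).elim
  · exact (noB hG 5 23 1 1 (by norm_num) (by norm_num) (by rw [hn]; norm_num)).elim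
  · exact (noB hG 2 29 2 1 (by norm_num) (by norm_num) (by rw [hn]; norm_num)).elim
  · exact (noB hG 3 13 2 1 (by norm_num) (by norm_num) (by rw [hn]; norm_num)).elim
  · exact (noB hG 2 59 1 1 (by norm_num) (by norm_num) (by rw [hn]; norm_num)).elim
  · exact (noB hG 7 17 1 1 (by norm_num) (by norm_num) (by rw [hn]; norm_num)).elim
  · exact (noR (G := G) 120 2 5 3 3 1 hn (by norm_num) (by norm_num) (by norm_num) (by norm_num) (by norm_num) (by norm_num) (by norm_num) (by norm_num) (by decide +kernel)).elim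
  · exact (noB hG 11 2 2 0 (by norm_num) (by norm_num) (by rw [hn]; norm_num)).elim
  · exact (noB hG 2 61 1 1 (by norm_num) (by norm_num) (by rw [hn]; norm_num)).elim
  · exact (noB hG 3 41 1 1 (by norm_num) (by norm_num) (by rw [hn]; norm_num)).elim
  · exact (noB hG 2 31 2 1 (by norm_num) (by norm_num) (by rw [hn]; norm_num)).elim
  · exact (noB hG 5 2 3 0 (by norm_num) (by norm_num) (by rw [hn]; norm_num)).elim
  · exact (noM4 (G := G) 126 hn (by norm_num) (by norm_num)).elim
  · exact (noB hG 127 2 1 0 (by norm_num) (by norm_num) (by rw [hn]; norm_num)).elim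
  · exact (noB hG 2 2 7 0 (by norm_num) (by norm_num) (by rw [hn]; norm_num)).elim
  · exact (noB hG 3 43 1 1 (by norm_num) (by norm_num) (by rw [hn]; norm_num)).elim
  · exact (noM4 (G := G) 130 hn (by norm_num) (by norm_num)).elim
  · exact (noB hG 131 2 1 0 (by norm_num) (by norm_num) (by rw [hn]; norm_num)).elim
  · exact (noQ (G := G) 132 2 3 11 hn (by norm_num) (by norm_num) (by norm_num) (by norm_num) (by norm_num)).elim
  · exact (noB hG 7 19 1 1 (by norm_num) (by norm_num) (by rw [hn]; norm_num)).elim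
  · exact (noB hG 2 67 1 1 (by norm_num) (by norm_num) (by rw [hn]; norm_num)).elim
  · exact (noB hG 3 5 3 1 (by norm_num) (by norm_num) (by rw [hn]; norm_num)).elim
  · exact (noB hG 2 17 3 1 (by norm_num) (by norm_num) (by rw [hn]; norm_num)).elim
  · exact (noB hG 137 2 1 0 (by norm_num) (by norm_num) (by rw [hn]; norm_num)).elim
  · exact (noM4 (G := G) 138 hn (by norm_num) (by norm_num)).elim
  · exact (noB hG 139 2 1 0 (by norm_num) (by norm_num) (by rw [hn]; norm_num)).elim
  · exact (noS (G := G) 140 7 2 (by norm_num) hn (by norm_num) (by norm_num) (by norm_num) (by norm_num) (by decide +kernel)).elim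
  · exact (noB hG 3 47 1 1 (by norm_num) (by norm_num) (by rw [hn]; norm_num)).elim
  · exact (noB hG 2 71 1 1 (by norm_num) (by norm_num) (by rw [hn]; norm_num)).elim
  · exact (noB hG 11 13 1 1 (by norm_num) (by norm_num) (by rw [hn]; norm_num)).elim
  · exact (noB hG 2 3 4 2 (by norm_num) (by norm_num) (by rw [hn]; norm_num)).elim
  · exact (noB hG 5 29 1 1 (by norm_num) (by norm_num) (by rw [hn]; norm_num)).elim
  · exact (noB hG 2 73 1 1 (by norm_num) (by norm_num) (by rw [hn]; norm_num)).elim
  · exact (noB hG 3 7 1 2 (by norm_num) (by norm_num) (by rw [hn]; norm_num)).elim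
  · exact (noB hG 2 37 2 1 (by norm_num) (by norm_num) (by rw [hn]; norm_num)).elim
  · exact (noB hG 149 2 1 0 (by norm_num) (by norm_num) (by rw [hn]; norm_num)).elim
  · exact (noM4 (G := G) 150 hn (by norm_num) (by norm_num)).elim
  · exact (noB hG 151 2 1 0 (by norm_num) (by norm_num) (by rw [hn]; norm_num)).elim
  · exact (noB hG 2 19 3 1 (by norm_num) (by norm_num) (by rw [hn]; norm_num)).elim
  · exact (noB hG 3 17 2 1 (by norm_num) (by norm_num) (by rw [hn]; norm_num)).elim
  · exact (noM4 (G := G) 154 hn (by norm_num) (by norm_num)).elim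
  · exact (noB hG 5 31 1 1 (by norm_num) (by norm_num) (by rw [hn]; norm_num)).elim
  · exact (noS (G := G) 156 13 2 (by norm_num) hn (by norm_num) (by norm_num) (by norm_num) (by norm_num) (by decide +kernel)).elim
  · exact (noB hG 157 2 1 0 (by norm_num) (by norm_num) (by rw [hn]; norm_num)).elim
  · exact (noB hG 2 79 1 1 (by norm_num) (by norm_num) (by rw [hn]; norm_num)).elim
  · exact (noB hG 3 53 1 1 (by norm_num) (by norm_num) (by rw [hn]; norm_num)).elim
  · exact (noB hG 2 5 5 1 (by norm_num) (by norm_num) (by rw [hn]; norm_num)).elim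
  · exact (noB hG 7 23 1 1 (by norm_num) (by norm_num) (by rw [hn]; norm_num)).elim
  · exact (noB hG 2 3 1 4 (by norm_num) (by norm_num) (by rw [hn]; norm_num)).elim
  · exact (noB hG 163 2 1 0 (by norm_num) (by norm_num) (by rw [hn]; norm_num)).elim
  · exact (noB hG 2 41 2 1 (by norm_num) (by norm_num) (by rw [hn]; norm_num)).elim
  · exact (noS (G := G) 165 11 3 (by norm_num) hn (by norm_num) (by norm_num) (by norm_num) (by norm_num) (by decide +kernel)).elim
  · exact (noB hG 2 83 1 1 (by norm_num) (by norm_num) (by rw [hn]; norm_num)).elim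
  · exact (noB hG 167 2 1 0 (by norm_num) (by norm_num) (by rw [hn]; norm_num)).elim
  · decide
  · exact (noB hG 13 2 2 0 (by norm_num) (by norm_num) (by rw [hn]; norm_num)).elim
  · exact (noM4 (G := G) 170 hn (by norm_num) (by norm_num)).elim
  · exact (noB hG 3 19 2 1 (by norm_num) (by norm_num) (by rw [hn]; norm_num)).elim
  · exact (noB hG 2 43 2 1 (by norm_num) (by norm_num) (by rw [hn]; norm_num)).elim
  · exact (noB hG 173 2 1 0 (by norm_num) (by norm_num) (by rw [hn]; norm_num)).elim
  · exact (noM4 (G := G) 174 hn (by norm_num) (by norm_num)).elim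
  · exact (noB hG 5 7 2 1 (by norm_num) (by norm_num) (by rw [hn]; norm_num)).elim
  · exact (noB hG 2 11 4 1 (by norm_num) (by norm_num) (by rw [hn]; norm_num)).elim
  · exact (noB hG 3 59 1 1 (by norm_num) (by norm_num) (by rw [hn]; norm_num)).elim
  · exact (noB hG 2 89 1 1 (by norm_num) (by norm_num) (by rw [hn]; norm_num)).elim
  · exact (noB hG 179 2 1 0 (by norm_num) (by norm_num) (by rw [hn]; norm_num)).elim
  · exact (noR (G := G) 180 2 3 5 2 2 hn (by norm_num) (by norm_num) (by norm_num) (by norm_num) (by norm_num) (by norm_num) (by norm_num) (by norm_num) (by decide +kernel)).elim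
  · exact (noB hG 181 2 1 0 (by norm_num) (by norm_num) (by rw [hn]; norm_num)).elim
  · exact (noM4 (G := G) 182 hn (by norm_num) (by norm_num)).elim
  · exact (noB hG 3 61 1 1 (by norm_num) (by norm_num) (by rw [hn]; norm_num)).elim
  · exact (noB hG 2 23 3 1 (by norm_num) (by norm_num) (by rw [hn]; norm_num)).elim
  · exact (noB hG 5 37 1 1 (by norm_num) (by norm_num) (by rw [hn]; norm_num)).elim
  · exact (noM4 (G := G) 186 hn (by norm_num) (by norm_num)).elim
  · exact (noB hG 11 17 1 1 (by norm_num) (by norm_num) (by rw [hn]; norm_num)).elim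
  · exact (noB hG 2 47 2 1 (by norm_num) (by norm_num) (by rw [hn]; norm_num)).elim
  · exact (noB hG 3 7 3 1 (by norm_num) (by norm_num) (by rw [hn]; norm_num)).elim
  · exact (noM4 (G := G) 190 hn (by norm_num) (by norm_num)).elim
  · exact (noB hG 191 2 1 0 (by norm_num) (by norm_num) (by rw [hn]; norm_num)).elim
  · exact (noB hG 2 3 6 1 (by norm_num) (by norm_num) (by rw [hn]; norm_num)).elim
  · exact (noB hG 193 2 1 0 (by norm_num) (by norm_num) (by rw [hn]; norm_num)).elim
  · exact (noB hG 2 97 1 1 (by norm_num) (by norm_num) (by rw [hn]; norm_num)).elim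
  · exact (noS (G := G) 195 13 3 (by norm_num) hn (by norm_num) (by norm_num) (by norm_num) (by norm_num) (by decide +kernel)).elim
  · exact (noB hG 2 7 2 2 (by norm_num) (by norm_num) (by rw [hn]; norm_num)).elim
  · exact (noB hG 197 2 1 0 (by norm_num) (by norm_num) (by rw [hn]; norm_num)).elim
  · exact (noM4 (G := G) 198 hn (by norm_num) (by norm_num)).elim
  · exact (noB hG 199 2 1 0 (by norm_num) (by norm_num) (by rw [hn]; norm_num)).elim
  · exact (noB hG 2 5 3 2 (by norm_num) (by norm_num) (by rw [hn]; norm_num)).elim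

end Cfsg.Agent.Lib.Helper25.O496
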