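import Cfsg.Agent.Lib.Helper25.O496.Base

set_option autoImplicit false
set_option maxHeartbeats 4000000
set_option maxRecDepth 100000

namespace Cfsg.Agent.Lib.Helper25.O496

theorem chunk1 {G : Type*} [Group G] [Finite G] [IsSimpleGroup G] (hG : ¬ IsMulCommutative G)
    (n : ℕ) (hn : Nat.card G = n) (h1 : 201 ≤ n) (h2 : n ≤ 300) :
    n ∈ ([168, 360, 420, 504, 612, 660, 720, 756, 840, 900, 924, 960, 1092] : List ℕ) := by
  interval_cases n
  · exact (noB hG 3 67 1 1 (by norm_num) (by norm_num) (by rw [hn]; norm_num)).elim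
  · exact (noB hG 2 101 1 1 (by norm_num) (by norm_num) (by rw [hn]; norm_num)).elim
  · exact (noB hG 7 29 1 1 (by norm_num) (by norm_num) (by rw [hn]; norm_num)).elim
  · exact (noS (G := G) 204 17 2 (by norm_num) hn (by norm_num) (by norm_num) (by norm_num) (by norm_num) (by decide +kernel)).elim
  · exact (noB hG 5 41 1 1 (by norm_num) (by norm_num) (by rw [hn]; norm_num)).elim
  · exact (noB hG 2 103 1 1 (by norm_num) (by norm_num) (by rw [hn]; norm_num)).elim
  · exact (noB hG 3 23 2 1 (by norm_num) (by norm_num) (by rw [hn]; norm_num)).elim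
  · exact (noB hG 2 13 4 1 (by norm_num) (by norm_num) (by rw [hn]; norm_num)).elim
  · exact (noB hG 11 19 1 1 (by norm_num) (by norm_num) (by rw [hn]; norm_num)).elim
  · exact (noM4 (G := G) 210 hn (by norm_num) (by norm_num)).elim
  · exact (noB hG 211 2 1 0 (by norm_num) (by norm_num) (by rw [hn]; norm_num)).elim
  · exact (noB hG 2 53 2 1 (by norm_num) (by norm_num) (by rw [hn]; norm_num)).elim
  · exact (noB hG 3 71 1 1 (by norm_num) (by norm_num) (by rw [hn]; norm_num)).elim
  · exact (noB hG 2 107 1 1 (by norm_num) (by norm_num) (by rw [hn]; norm_num)).elim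
  · exact (noB hG 5 43 1 1 (by norm_num) (by norm_num) (by rw [hn]; norm_num)).elim
  · exact (noB hG 2 3 3 3 (by norm_num) (by norm_num) (by rw [hn]; norm_num)).elim
  · exact (noB hG 7 31 1 1 (by norm_num) (by norm_num) (by rw [hn]; norm_num)).elim
  · exact (noB hG 2 109 1 1 (by norm_num) (by norm_num) (by rw [hn]; norm_num)).elim
  · exact (noB hG 3 73 1 1 (by norm_num) (by norm_num) (by rw [hn]; norm_num)).elim
  · exact (noS (G := G) 220 11 2 (by norm_num) hn (by norm_num) (by norm_num) (by norm_num) (by norm_num) (by decide +kernel)).elim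
  · exact (noB hG 13 17 1 1 (by norm_num) (by norm_num) (by rw [hn]; norm_num)).elim
  · exact (noM4 (G := G) 222 hn (by norm_num) (by norm_num)).elim
  · exact (noB hG 223 2 1 0 (by norm_num) (by norm_num) (by rw [hn]; norm_num)).elim
  · exact (noB hG 2 7 5 1 (by norm_num) (by norm_num) (by rw [hn]; norm_num)).elim
  · exact (noB hG 3 5 2 2 (by norm_num) (by norm_num) (by rw [hn]; norm_num)).elim
  · exact (noB hG 2 113 1 1 (by norm_num) (by norm_num) (by rw [hn]; norm_num)).elim
  · exact (noB hG 227 2 1 0 (by norm_num) (by norm_num) (by rw [hn]; norm_num)).elim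
  · exact (noS (G := G) 228 19 2 (by norm_num) hn (by norm_num) (by norm_num) (by norm_num) (by norm_num) (by decide +kernel)).elim
  · exact (noB hG 229 2 1 0 (by norm_num) (by norm_num) (by rw [hn]; norm_num)).elim
  · exact (noM4 (G := G) 230 hn (by norm_num) (by norm_num)).elim
  · exact (noS (G := G) 231 11 3 (by norm_num) hn (by norm_num) (by norm_num) (by norm_num) (by norm_num) (by decide +kernel)).elim
  · exact (noB hG 2 29 3 1 (by norm_num) (by norm_num) (by rw [hn]; norm_num)).elim
  · exact (noB hG 233 2 1 0 (by norm_num) (by norm_num) (by rw [hn]; norm_num)).elim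
  · exact (noM4 (G := G) 234 hn (by norm_num) (by norm_num)).elim
  · exact (noB hG 5 47 1 1 (by norm_num) (by norm_num) (by rw [hn]; norm_num)).elim
  · exact (noB hG 2 59 2 1 (by norm_num) (by norm_num) (by rw [hn]; norm_num)).elim
  · exact (noB hG 3 79 1 1 (by norm_num) (by norm_num) (by rw [hn]; norm_num)).elim
  · exact (noM4 (G := G) 238 hn (by norm_num) (by norm_num)).elim
  · exact (noB hG 239 2 1 0 (by norm_num) (by norm_num) (by rw [hn]; norm_num)).elim
  · exact (noR (G := G) 240 2 3 5 4 1 hn (by norm_num) (by norm_num) (by norm_num) (by norm_num) (by norm_num) (by norm_num) (by norm_num) (by norm_num) (by decide +kernel)).elim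
  · exact (noB hG 241 2 1 0 (by norm_num) (by norm_num) (by rw [hn]; norm_num)).elim
  · exact (noB hG 2 11 1 2 (by norm_num) (by norm_num) (by rw [hn]; norm_num)).elim
  · exact (noB hG 3 2 5 0 (by norm_num) (by norm_num) (by rw [hn]; norm_num)).elim
  · exact (noB hG 2 61 2 1 (by norm_num) (by norm_num) (by rw [hn]; norm_num)).elim
  · exact (noB hG 5 7 1 2 (by norm_num) (by norm_num) (by rw [hn]; norm_num)).elim
  · exact (noM4 (G := G) 246 hn (by norm_num) (by norm_num)).elim
  · exact (noB hG 13 19 1 1 (by norm_num) (by norm_num) (by rw [hn]; norm_num)).elim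
  · exact (noB hG 2 31 3 1 (by norm_num) (by norm_num) (by rw [hn]; norm_num)).elim
  · exact (noB hG 3 83 1 1 (by norm_num) (by norm_num) (by rw [hn]; norm_num)).elim
  · exact (noB hG 2 5 1 3 (by norm_num) (by norm_num) (by rw [hn]; norm_num)).elim
  · exact (noB hG 251 2 1 0 (by norm_num) (by norm_num) (by rw [hn]; norm_num)).elim
  · exact (noR (G := G) 252 2 3 7 2 2 hn (by norm_num) (by norm_num) (by norm_num) (by norm_num) (by norm_num) (by norm_num) (by norm_num) (by norm_num) (by decide +kernel)).elim
  · exact (noB hG 11 23 1 1 (by norm_num) (by norm_num) (by rw [hn]; norm_num)).elim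
  · exact (noB hG 2 127 1 1 (by norm_num) (by norm_num) (by rw [hn]; norm_num)).elim
  · exact (noS (G := G) 255 17 3 (by norm_num) hn (by norm_num) (by norm_num) (by norm_num) (by norm_num) (by decide +kernel)).elim
  · exact (noB hG 2 2 8 0 (by norm_num) (by norm_num) (by rw [hn]; norm_num)).elim
  · exact (noB hG 257 2 1 0 (by norm_num) (by norm_num) (by rw [hn]; norm_num)).elim
  · exact (noM4 (G := G) 258 hn (by norm_num) (by norm_num)).elim
  · exact (noB hG 7 37 1 1 (by norm_num) (by norm_num) (by rw [hn]; norm_num)).elim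
  · exact (noS (G := G) 260 13 2 (by norm_num) hn (by norm_num) (by norm_num) (by norm_num) (by norm_num) (by decide +kernel)).elim
  · exact (noB hG 3 29 2 1 (by norm_num) (by norm_num) (by rw [hn]; norm_num)).elim
  · exact (noB hG 2 131 1 1 (by norm_num) (by norm_num) (by rw [hn]; norm_num)).elim
  · exact (noB hG 263 2 1 0 (by norm_num) (by norm_num) (by rw [hn]; norm_num)).elim
  · exact (noR (G := G) 264 2 11 3 3 1 hn (by norm_num) (by norm_num) (by norm_num) (by norm_num) (by norm_num) (by norm_num) (by norm_num) (by norm_num) (by decide +kernel)).elim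
  · exact (noB hG 5 53 1 1 (by norm_num) (by norm_num) (by rw [hn]; norm_num)).elim
  · exact (noM4 (G := G) 266 hn (by norm_num) (by norm_num)).elim
  · exact (noB hG 3 89 1 1 (by norm_num) (by norm_num) (by rw [hn]; norm_num)).elim
  · exact (noB hG 2 67 2 1 (by norm_num) (by norm_num) (by rw [hn]; norm_num)).elim
  · exact (noB hG 269 2 1 0 (by norm_num) (by norm_num) (by rw [hn]; norm_num)).elim
  · exact (noM4 (G := G) 270 hn (by norm_num) (by norm_num)).elim
  · exact (noB hG 271 2 1 0 (by norm_num) (by norm_num) (by rw [hn]; norm_num)).elim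
  · exact (noB hG 2 17 4 1 (by norm_num) (by norm_num) (by rw [hn]; norm_num)).elim
  · exact (noS (G := G) 273 13 3 (by norm_num) hn (by norm_num) (by norm_num) (by norm_num) (by norm_num) (by decide +kernel)).elim
  · exact (noB hG 2 137 1 1 (by norm_num) (by norm_num) (by rw [hn]; norm_num)).elim
  · exact (noB hG 5 11 2 1 (by norm_num) (by norm_num) (by rw [hn]; norm_num)).elim
  · exact (noS (G := G) 276 23 2 (by norm_num) hn (by norm_num) (by norm_num) (by norm_num) (by norm_num) (by decide +kernel)).elim
  · exact (noB hG 277 2 1 0 (by norm_num) (by norm_num) (by rw [hn]; norm_num)).elim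
  · exact (noB hG 2 139 1 1 (by norm_num) (by norm_num) (by rw [hn]; norm_num)).elim
  · exact (noB hG 3 31 2 1 (by norm_num) (by norm_num) (by rw [hn]; norm_num)).elim
  · exact (noR (G := G) 280 2 7 5 3 1 hn (by norm_num) (by norm_num) (by norm_num) (by norm_num) (by norm_num) (by norm_num) (by norm_num) (by norm_num) (by decide +kernel)).elim
  · exact (noB hG 281 2 1 0 (by norm_num) (by norm_num) (by rw [hn]; norm_num)).elim
  · exact (noM4 (G := G) 282 hn (by norm_num) (by norm_num)).elim
  · exact (noB hG 283 2 1 0 (by norm_num) (by norm_num) (by rw [hn]; norm_num)).elim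
  · exact (noB hG 2 71 2 1 (by norm_num) (by norm_num) (by rw [hn]; norm_num)).elim
  · exact (noS (G := G) 285 19 3 (by norm_num) hn (by norm_num) (by norm_num) (by norm_num) (by norm_num) (by decide +kernel)).elim
  · exact (noM4 (G := G) 286 hn (by norm_num) (by norm_num)).elim
  · exact (noB hG 7 41 1 1 (by norm_num) (by norm_num) (by rw [hn]; norm_num)).elim
  · exact (noB hG 2 3 5 2 (by norm_num) (by norm_num) (by rw [hn]; norm_num)).elim
  · exact (noB hG 17 2 2 0 (by norm_num) (by norm_num) (by rw [hn]; norm_num)).elim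
  · exact (noM4 (G := G) 290 hn (by norm_num) (by norm_num)).elim
  · exact (noB hG 3 97 1 1 (by norm_num) (by norm_num) (by rw [hn]; norm_num)).elim
  · exact (noB hG 2 73 2 1 (by norm_num) (by norm_num) (by rw [hn]; norm_num)).elim
  · exact (noB hG 293 2 1 0 (by norm_num) (by norm_num) (by rw [hn]; norm_num)).elim
  · exact (noM4 (G := G) 294 hn (by norm_num) (by norm_num)).elim
  · exact (noB hG 5 59 1 1 (by norm_num) (by norm_num) (by rw [hn]; norm_num)).elim
  · exact (noB hG 2 37 3 1 (by norm_num) (by norm_num) (by rw [hn]; norm_num)).elim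
  · exact (noB hG 3 11 3 1 (by norm_num) (by norm_num) (by rw [hn]; norm_num)).elim
  · exact (noB hG 2 149 1 1 (by norm_num) (by norm_num) (by rw [hn]; norm_num)).elim
  · exact (noB hG 13 23 1 1 (by norm_num) (by norm_num) (by rw [hn]; norm_num)).elim
  · exact (noS (G := G) 300 5 2 (by norm_num) hn (by norm_num) (by norm_num) (by norm_num) (by norm_num) (by decide +kernel)).elim

end Cfsg.Agent.Lib.Helper25.O496
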