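import Cfsg.Agent.Lib.Helper25.O496.Base

set_option autoImplicit false
set_option maxHeartbeats 4000000
set_option maxRecDepth 100000

namespace Cfsg.Agent.Lib.Helper25.O496

theorem chunk2 {G : Type*} [Group G] [Finite G] [IsSimpleGroup G] (hG : ¬ IsMulCommutative G)
    (n : ℕ) (hn : Nat.card G = n) (h1 : 301 ≤ n) (h2 : n ≤ 400) :
    n ∈ ([168, 360, 420, 504, 612, 660, 720, 756, 840, 900, 924, 960, 1092] : List ℕ) := by
  interval_cases n
  · exact (noB hG 7 43 1 1 (by norm_num) (by norm_num) (by rw [hn]; norm_num)).elim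
  · exact (noB hG 2 151 1 1 (by norm_num) (by norm_num) (by rw [hn]; norm_num)).elim
  · exact (noB hG 3 101 1 1 (by norm_num) (by norm_num) (by rw [hn]; norm_num)).elim
  · exact (noB hG 2 19 4 1 (by norm_num) (by norm_num) (by rw [hn]; norm_num)).elim
  · exact (noB hG 5 61 1 1 (by norm_num) (by norm_num) (by rw [hn]; norm_num)).elim
  · exact (noM4 (G := G) 306 hn (by norm_num) (by norm_num)).elim
  · exact (noB hG 307 2 1 0 (by norm_num) (by norm_num) (by rw [hn]; norm_num)).elim
  · exact (noS (G := G) 308 11 2 (by norm_num) hn (by norm_num) (by norm_num) (by norm_num) (by norm_num) (by decide +kernel)).elim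
  · exact (noB hG 3 103 1 1 (by norm_num) (by norm_num) (by rw [hn]; norm_num)).elim
  · exact (noM4 (G := G) 310 hn (by norm_num) (by norm_num)).elim
  · exact (noB hG 311 2 1 0 (by norm_num) (by norm_num) (by rw [hn]; norm_num)).elim
  · exact (noS (G := G) 312 13 2 (by norm_num) hn (by norm_num) (by norm_num) (by norm_num) (by norm_num) (by decide +kernel)).elim
  · exact (noB hG 313 2 1 0 (by norm_num) (by norm_num) (by rw [hn]; norm_num)).elim
  · exact (noB hG 2 157 1 1 (by norm_num) (by norm_num) (by rw [hn]; norm_num)).elim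
  · exact (noC73 hG 315 3 hn (by norm_num) (by norm_num) (by norm_num)).elim
  · exact (noB hG 2 79 2 1 (by norm_num) (by norm_num) (by rw [hn]; norm_num)).elim
  · exact (noB hG 317 2 1 0 (by norm_num) (by norm_num) (by rw [hn]; norm_num)).elim
  · exact (noM4 (G := G) 318 hn (by norm_num) (by norm_num)).elim
  · exact (noB hG 11 29 1 1 (by norm_num) (by norm_num) (by rw [hn]; norm_num)).elim
  · exact (noB hG 2 5 6 1 (by norm_num) (by norm_num) (by rw [hn]; norm_num)).elim
  · exact (noB hG 3 107 1 1 (by norm_num) (by norm_num) (by rw [hn]; norm_num)).elim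
  · exact (noM4 (G := G) 322 hn (by norm_num) (by norm_num)).elim
  · exact (noB hG 17 19 1 1 (by norm_num) (by norm_num) (by rw [hn]; norm_num)).elim
  · exact (noB hG 2 3 2 4 (by norm_num) (by norm_num) (by rw [hn]; norm_num)).elim
  · exact (noB hG 5 13 2 1 (by norm_num) (by norm_num) (by rw [hn]; norm_num)).elim
  · exact (noB hG 2 163 1 1 (by norm_num) (by norm_num) (by rw [hn]; norm_num)).elim
  · exact (noB hG 3 109 1 1 (by norm_num) (by norm_num) (by rw [hn]; norm_num)).elim
  · exact (noB hG 2 41 3 1 (by norm_num) (by norm_num) (by rw [hn]; norm_num)).elim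
  · exact (noB hG 7 47 1 1 (by norm_num) (by norm_num) (by rw [hn]; norm_num)).elim
  · exact (noM4 (G := G) 330 hn (by norm_num) (by norm_num)).elim
  · exact (noB hG 331 2 1 0 (by norm_num) (by norm_num) (by rw [hn]; norm_num)).elim
  · exact (noB hG 2 83 2 1 (by norm_num) (by norm_num) (by rw [hn]; norm_num)).elim
  · exact (noB hG 3 37 2 1 (by norm_num) (by norm_num) (by rw [hn]; norm_num)).elim
  · exact (noB hG 2 167 1 1 (by norm_num) (by norm_num) (by rw [hn]; norm_num)).elim
  · exact (noB hG 5 67 1 1 (by norm_num) (by norm_num) (by rw [hn]; norm_num)).elim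
  · exact (noR (G := G) 336 2 7 3 4 1 hn (by norm_num) (by norm_num) (by norm_num) (by norm_num) (by norm_num) (by norm_num) (by norm_num) (by norm_num) (by decide +kernel)).elim
  · exact (noB hG 337 2 1 0 (by norm_num) (by norm_num) (by rw [hn]; norm_num)).elim
  · exact (noB hG 2 13 1 2 (by norm_num) (by norm_num) (by rw [hn]; norm_num)).elim
  · exact (noB hG 3 113 1 1 (by norm_num) (by norm_num) (by rw [hn]; norm_num)).elim
  · exact (noS (G := G) 340 17 2 (by norm_num) hn (by norm_num) (by norm_num) (by norm_num) (by norm_num) (by decide +kernel)).elim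
  · exact (noB hG 11 31 1 1 (by norm_num) (by norm_num) (by rw [hn]; norm_num)).elim
  · exact (noM4 (G := G) 342 hn (by norm_num) (by norm_num)).elim
  · exact (noB hG 7 2 3 0 (by norm_num) (by norm_num) (by rw [hn]; norm_num)).elim
  · exact (noB hG 2 43 3 1 (by norm_num) (by norm_num) (by rw [hn]; norm_num)).elim
  · exact (noS (G := G) 345 23 3 (by norm_num) hn (by norm_num) (by norm_num) (by norm_num) (by norm_num) (by decide +kernel)).elim
  · exact (noB hG 2 173 1 1 (by norm_num) (by norm_num) (by rw [hn]; norm_num)).elim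
  · exact (noB hG 347 2 1 0 (by norm_num) (by norm_num) (by rw [hn]; norm_num)).elim
  · exact (noS (G := G) 348 29 2 (by norm_num) hn (by norm_num) (by norm_num) (by norm_num) (by norm_num) (by decide +kernel)).elim
  · exact (noB hG 349 2 1 0 (by norm_num) (by norm_num) (by rw [hn]; norm_num)).elim
  · exact (noM4 (G := G) 350 hn (by norm_num) (by norm_num)).elim
  · exact (noB hG 3 13 3 1 (by norm_num) (by norm_num) (by rw [hn]; norm_num)).elim
  · exact (noB hG 2 11 5 1 (by norm_num) (by norm_num) (by rw [hn]; norm_num)).elim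
  · exact (noB hG 353 2 1 0 (by norm_num) (by norm_num) (by rw [hn]; norm_num)).elim
  · exact (noM4 (G := G) 354 hn (by norm_num) (by norm_num)).elim
  · exact (noB hG 5 71 1 1 (by norm_num) (by norm_num) (by rw [hn]; norm_num)).elim
  · exact (noB hG 2 89 2 1 (by norm_num) (by norm_num) (by rw [hn]; norm_num)).elim
  · exact (noS (G := G) 357 17 3 (by norm_num) hn (by norm_num) (by norm_num) (by norm_num) (by norm_num) (by decide +kernel)).elim
  · exact (noB hG 2 179 1 1 (by norm_num) (by norm_num) (by rw [hn]; norm_num)).elim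
  · exact (noB hG 359 2 1 0 (by norm_num) (by norm_num) (by rw [hn]; norm_num)).elim
  · decide
  · exact (noB hG 19 2 2 0 (by norm_num) (by norm_num) (by rw [hn]; norm_num)).elim
  · exact (noB hG 2 181 1 1 (by norm_num) (by norm_num) (by rw [hn]; norm_num)).elim
  · exact (noB hG 3 11 1 2 (by norm_num) (by norm_num) (by rw [hn]; norm_num)).elim
  · exact (noS (G := G) 364 7 2 (by norm_num) hn (by norm_num) (by norm_num) (by norm_num) (by norm_num) (by decide +kernel)).elim
  · exact (noB hG 5 73 1 1 (by norm_num) (by norm_num) (by rw [hn]; norm_num)).elim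
  · exact (noM4 (G := G) 366 hn (by norm_num) (by norm_num)).elim
  · exact (noB hG 367 2 1 0 (by norm_num) (by norm_num) (by rw [hn]; norm_num)).elim
  · exact (noB hG 2 23 4 1 (by norm_num) (by norm_num) (by rw [hn]; norm_num)).elim
  · exact (noB hG 3 41 2 1 (by norm_num) (by norm_num) (by rw [hn]; norm_num)).elim
  · exact (noM4 (G := G) 370 hn (by norm_num) (by norm_num)).elim
  · exact (noB hG 7 53 1 1 (by norm_num) (by norm_num) (by rw [hn]; norm_num)).elim
  · exact (noS (G := G) 372 31 2 (by norm_num) hn (by norm_num) (by norm_num) (by norm_num) (by norm_num) (by decide +kernel)).elim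
  · exact (noB hG 373 2 1 0 (by norm_num) (by norm_num) (by rw [hn]; norm_num)).elim
  · exact (noM4 (G := G) 374 hn (by norm_num) (by norm_num)).elim
  · exact (noB hG 3 5 1 3 (by norm_num) (by norm_num) (by rw [hn]; norm_num)).elim
  · exact (noB hG 2 47 3 1 (by norm_num) (by norm_num) (by rw [hn]; norm_num)).elim
  · exact (noB hG 13 29 1 1 (by norm_num) (by norm_num) (by rw [hn]; norm_num)).elim
  · exact (noM4 (G := G) 378 hn (by norm_num) (by norm_num)).elim
  · exact (noB hG 379 2 1 0 (by norm_num) (by norm_num) (by rw [hn]; norm_num)).elim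
  · exact (noC73 hG 380 2 hn (by norm_num) (by norm_num) (by norm_num)).elim
  · exact (noB hG 3 127 1 1 (by norm_num) (by norm_num) (by rw [hn]; norm_num)).elim
  · exact (noB hG 2 191 1 1 (by norm_num) (by norm_num) (by rw [hn]; norm_num)).elim
  · exact (noB hG 383 2 1 0 (by norm_num) (by norm_num) (by rw [hn]; norm_num)).elim
  · exact (noB hG 2 3 7 1 (by norm_num) (by norm_num) (by rw [hn]; norm_num)).elim
  · exact (noS (G := G) 385 11 5 (by norm_num) hn (by norm_num) (by norm_num) (by norm_num) (by norm_num) (by decide +kernel)).elim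
  · exact (noB hG 2 193 1 1 (by norm_num) (by norm_num) (by rw [hn]; norm_num)).elim
  · exact (noB hG 3 43 2 1 (by norm_num) (by norm_num) (by rw [hn]; norm_num)).elim
  · exact (noB hG 2 97 2 1 (by norm_num) (by norm_num) (by rw [hn]; norm_num)).elim
  · exact (noB hG 389 2 1 0 (by norm_num) (by norm_num) (by rw [hn]; norm_num)).elim
  · exact (noM4 (G := G) 390 hn (by norm_num) (by norm_num)).elim
  · exact (noB hG 17 23 1 1 (by norm_num) (by norm_num) (by rw [hn]; norm_num)).elim
  · exact (noB hG 2 7 3 2 (by norm_num) (by norm_num) (by rw [hn]; norm_num)).elim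
  · exact (noB hG 3 131 1 1 (by norm_num) (by norm_num) (by rw [hn]; norm_num)).elim
  · exact (noB hG 2 197 1 1 (by norm_num) (by norm_num) (by rw [hn]; norm_num)).elim
  · exact (noB hG 5 79 1 1 (by norm_num) (by norm_num) (by rw [hn]; norm_num)).elim
  · exact (noR (G := G) 396 2 3 11 2 2 hn (by norm_num) (by norm_num) (by norm_num) (by norm_num) (by norm_num) (by norm_num) (by norm_num) (by norm_num) (by decide +kernel)).elim
  · exact (noB hG 397 2 1 0 (by norm_num) (by norm_num) (by rw [hn]; norm_num)).elim
  · exact (noB hG 2 199 1 1 (by norm_num) (by norm_num) (by rw [hn]; norm_num)).elim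
  · exact (noS (G := G) 399 19 3 (by norm_num) hn (by norm_num) (by norm_num) (by norm_num) (by norm_num) (by decide +kernel)).elim
  · exact (noB hG 2 5 4 2 (by norm_num) (by norm_num) (by rw [hn]; norm_num)).elim

end Cfsg.Agent.Lib.Helper25.O496
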