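import Cfsg.Agent.Lib.Helper25.O496.Base

set_option autoImplicit false
set_option maxHeartbeats 4000000
set_option maxRecDepth 100000

namespace Cfsg.Agent.Lib.Helper25.O496

theorem chunk3 {G : Type*} [Group G] [Finite G] [IsSimpleGroup G] (hG : ¬ IsMulCommutative G)
    (n : ℕ) (hn : Nat.card G = n) (h1 : 401 ≤ n) (h2 : n ≤ 500) :
    n ∈ ([168, 360, 420, 504, 612, 660, 720, 756, 840, 900, 924, 960, 1092] : List ℕ) := by
  interval_cases n
  · exact (noB hG 401 2 1 0 (by norm_num) (by norm_num) (by rw [hn]; norm_num)).elim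
  · exact (noM4 (G := G) 402 hn (by norm_num) (by norm_num)).elim
  · exact (noB hG 13 31 1 1 (by norm_num) (by norm_num) (by rw [hn]; norm_num)).elim
  · exact (noB hG 2 101 2 1 (by norm_num) (by norm_num) (by rw [hn]; norm_num)).elim
  · exact (noB hG 3 5 4 1 (by norm_num) (by norm_num) (by rw [hn]; norm_num)).elim
  · exact (noM4 (G := G) 406 hn (by norm_num) (by norm_num)).elim
  · exact (noB hG 11 37 1 1 (by norm_num) (by norm_num) (by rw [hn]; norm_num)).elim
  · exact (noS (G := G) 408 17 2 (by norm_num) hn (by norm_num) (by norm_num) (by norm_num) (by norm_num) (by decide +kernel)).elim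
  · exact (noB hG 409 2 1 0 (by norm_num) (by norm_num) (by rw [hn]; norm_num)).elim
  · exact (noM4 (G := G) 410 hn (by norm_num) (by norm_num)).elim
  · exact (noB hG 3 137 1 1 (by norm_num) (by norm_num) (by rw [hn]; norm_num)).elim
  · exact (noB hG 2 103 2 1 (by norm_num) (by norm_num) (by rw [hn]; norm_num)).elim
  · exact (noB hG 7 59 1 1 (by norm_num) (by norm_num) (by rw [hn]; norm_num)).elim
  · exact (noM4 (G := G) 414 hn (by norm_num) (by norm_num)).elim
  · exact (noB hG 5 83 1 1 (by norm_num) (by norm_num) (by rw [hn]; norm_num)).elim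
  · exact (noB hG 2 13 5 1 (by norm_num) (by norm_num) (by rw [hn]; norm_num)).elim
  · exact (noB hG 3 139 1 1 (by norm_num) (by norm_num) (by rw [hn]; norm_num)).elim
  · exact (noM4 (G := G) 418 hn (by norm_num) (by norm_num)).elim
  · exact (noB hG 419 2 1 0 (by norm_num) (by norm_num) (by rw [hn]; norm_num)).elim
  · decide
  · exact (noB hG 421 2 1 0 (by norm_num) (by norm_num) (by rw [hn]; norm_num)).elim
  · exact (noB hG 2 211 1 1 (by norm_num) (by norm_num) (by rw [hn]; norm_num)).elim
  · exact (noB hG 3 47 2 1 (by norm_num) (by norm_num) (by rw [hn]; norm_num)).elim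
  · exact (noB hG 2 53 3 1 (by norm_num) (by norm_num) (by rw [hn]; norm_num)).elim
  · exact (noB hG 5 17 2 1 (by norm_num) (by norm_num) (by rw [hn]; norm_num)).elim
  · exact (noM4 (G := G) 426 hn (by norm_num) (by norm_num)).elim
  · exact (noB hG 7 61 1 1 (by norm_num) (by norm_num) (by rw [hn]; norm_num)).elim
  · exact (noB hG 2 107 2 1 (by norm_num) (by norm_num) (by rw [hn]; norm_num)).elim
  · exact (noS (G := G) 429 13 3 (by norm_num) hn (by norm_num) (by norm_num) (by norm_num) (by norm_num) (by decide +kernel)).elim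
  · exact (noM4 (G := G) 430 hn (by norm_num) (by norm_num)).elim
  · exact (noB hG 431 2 1 0 (by norm_num) (by norm_num) (by rw [hn]; norm_num)).elim
  · exact (noB hG 2 3 4 3 (by norm_num) (by norm_num) (by rw [hn]; norm_num)).elim
  · exact (noB hG 433 2 1 0 (by norm_num) (by norm_num) (by rw [hn]; norm_num)).elim
  · exact (noM4 (G := G) 434 hn (by norm_num) (by norm_num)).elim
  · exact (noS (G := G) 435 29 3 (by norm_num) hn (by norm_num) (by norm_num) (by norm_num) (by norm_num) (by decide +kernel)).elim
  · exact (noB hG 2 109 2 1 (by norm_num) (by norm_num) (by rw [hn]; norm_num)).elim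
  · exact (noB hG 19 23 1 1 (by norm_num) (by norm_num) (by rw [hn]; norm_num)).elim
  · exact (noM4 (G := G) 438 hn (by norm_num) (by norm_num)).elim
  · exact (noB hG 439 2 1 0 (by norm_num) (by norm_num) (by rw [hn]; norm_num)).elim
  · exact (noS (G := G) 440 11 2 (by norm_num) hn (by norm_num) (by norm_num) (by norm_num) (by norm_num) (by decide +kernel)).elim
  · exact (noB hG 3 7 2 2 (by norm_num) (by norm_num) (by rw [hn]; norm_num)).elim
  · exact (noM4 (G := G) 442 hn (by norm_num) (by norm_num)).elim
  · exact (noB hG 443 2 1 0 (by norm_num) (by norm_num) (by rw [hn]; norm_num)).elim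
  · exact (noS (G := G) 444 37 2 (by norm_num) hn (by norm_num) (by norm_num) (by norm_num) (by norm_num) (by decide +kernel)).elim
  · exact (noB hG 5 89 1 1 (by norm_num) (by norm_num) (by rw [hn]; norm_num)).elim
  · exact (noB hG 2 223 1 1 (by norm_num) (by norm_num) (by rw [hn]; norm_num)).elim
  · exact (noB hG 3 149 1 1 (by norm_num) (by norm_num) (by rw [hn]; norm_num)).elim
  · exact (noB hG 2 7 6 1 (by norm_num) (by norm_num) (by rw [hn]; norm_num)).elim
  · exact (noB hG 449 2 1 0 (by norm_num) (by norm_num) (by rw [hn]; norm_num)).elim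
  · exact (noM4 (G := G) 450 hn (by norm_num) (by norm_num)).elim
  · exact (noB hG 11 41 1 1 (by norm_num) (by norm_num) (by rw [hn]; norm_num)).elim
  · exact (noB hG 2 113 2 1 (by norm_num) (by norm_num) (by rw [hn]; norm_num)).elim
  · exact (noB hG 3 151 1 1 (by norm_num) (by norm_num) (by rw [hn]; norm_num)).elim
  · exact (noB hG 2 227 1 1 (by norm_num) (by norm_num) (by rw [hn]; norm_num)).elim
  · exact (noS (G := G) 455 13 5 (by norm_num) hn (by norm_num) (by norm_num) (by norm_num) (by norm_num) (by decide +kernel)).elim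
  · exact (noS (G := G) 456 19 2 (by norm_num) hn (by norm_num) (by norm_num) (by norm_num) (by norm_num) (by decide +kernel)).elim
  · exact (noB hG 457 2 1 0 (by norm_num) (by norm_num) (by rw [hn]; norm_num)).elim
  · exact (noB hG 2 229 1 1 (by norm_num) (by norm_num) (by rw [hn]; norm_num)).elim
  · exact (noB hG 3 17 3 1 (by norm_num) (by norm_num) (by rw [hn]; norm_num)).elim
  · exact (noS (G := G) 460 23 2 (by norm_num) hn (by norm_num) (by norm_num) (by norm_num) (by norm_num) (by decide +kernel)).elim
  · exact (noB hG 461 2 1 0 (by norm_num) (by norm_num) (by rw [hn]; norm_num)).elim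
  · exact (noM4 (G := G) 462 hn (by norm_num) (by norm_num)).elim
  · exact (noB hG 463 2 1 0 (by norm_num) (by norm_num) (by rw [hn]; norm_num)).elim
  · exact (noB hG 2 29 4 1 (by norm_num) (by norm_num) (by rw [hn]; norm_num)).elim
  · exact (noS (G := G) 465 31 3 (by norm_num) hn (by norm_num) (by norm_num) (by norm_num) (by norm_num) (by decide +kernel)).elim
  · exact (noB hG 2 233 1 1 (by norm_num) (by norm_num) (by rw [hn]; norm_num)).elim
  · exact (noB hG 467 2 1 0 (by norm_num) (by norm_num) (by rw [hn]; norm_num)).elim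
  · exact (noS (G := G) 468 13 2 (by norm_num) hn (by norm_num) (by norm_num) (by norm_num) (by norm_num) (by decide +kernel)).elim
  · exact (noB hG 7 67 1 1 (by norm_num) (by norm_num) (by rw [hn]; norm_num)).elim
  · exact (noM4 (G := G) 470 hn (by norm_num) (by norm_num)).elim
  · exact (noB hG 3 157 1 1 (by norm_num) (by norm_num) (by rw [hn]; norm_num)).elim
  · exact (noB hG 2 59 3 1 (by norm_num) (by norm_num) (by rw [hn]; norm_num)).elim
  · exact (noB hG 11 43 1 1 (by norm_num) (by norm_num) (by rw [hn]; norm_num)).elim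
  · exact (noM4 (G := G) 474 hn (by norm_num) (by norm_num)).elim
  · exact (noB hG 5 19 2 1 (by norm_num) (by norm_num) (by rw [hn]; norm_num)).elim
  · exact (noS (G := G) 476 17 2 (by norm_num) hn (by norm_num) (by norm_num) (by norm_num) (by norm_num) (by decide +kernel)).elim
  · exact (noB hG 3 53 2 1 (by norm_num) (by norm_num) (by rw [hn]; norm_num)).elim
  · exact (noB hG 2 239 1 1 (by norm_num) (by norm_num) (by rw [hn]; norm_num)).elim
  · exact (noB hG 479 2 1 0 (by norm_num) (by norm_num) (by rw [hn]; norm_num)).elim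
  · exact (noR (G := G) 480 2 5 3 5 1 hn (by norm_num) (by norm_num) (by norm_num) (by norm_num) (by norm_num) (by norm_num) (by norm_num) (by norm_num) (by decide +kernel)).elim
  · exact (noB hG 13 37 1 1 (by norm_num) (by norm_num) (by rw [hn]; norm_num)).elim
  · exact (noB hG 2 241 1 1 (by norm_num) (by norm_num) (by rw [hn]; norm_num)).elim
  · exact (noS (G := G) 483 23 3 (by norm_num) hn (by norm_num) (by norm_num) (by norm_num) (by norm_num) (by decide +kernel)).elim
  · exact (noB hG 2 11 2 2 (by norm_num) (by norm_num) (by rw [hn]; norm_num)).elim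
  · exact (noB hG 5 97 1 1 (by norm_num) (by norm_num) (by rw [hn]; norm_num)).elim
  · exact (noB hG 2 3 1 5 (by norm_num) (by norm_num) (by rw [hn]; norm_num)).elim
  · exact (noB hG 487 2 1 0 (by norm_num) (by norm_num) (by rw [hn]; norm_num)).elim
  · exact (noB hG 2 61 3 1 (by norm_num) (by norm_num) (by rw [hn]; norm_num)).elim
  · exact (noB hG 3 163 1 1 (by norm_num) (by norm_num) (by rw [hn]; norm_num)).elim
  · exact (noM4 (G := G) 490 hn (by norm_num) (by norm_num)).elim
  · exact (noB hG 491 2 1 0 (by norm_num) (by norm_num) (by rw [hn]; norm_num)).elim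
  · exact (noS (G := G) 492 41 2 (by norm_num) hn (by norm_num) (by norm_num) (by norm_num) (by norm_num) (by decide +kernel)).elim
  · exact (noB hG 17 29 1 1 (by norm_num) (by norm_num) (by rw [hn]; norm_num)).elim
  · exact (noM4 (G := G) 494 hn (by norm_num) (by norm_num)).elim
  · exact (noC73 hG 495 3 hn (by norm_num) (by norm_num) (by norm_num)).elim
  · exact (noB hG 2 31 4 1 (by norm_num) (by norm_num) (by rw [hn]; norm_num)).elim
  · exact (noB hG 7 71 1 1 (by norm_num) (by norm_num) (by rw [hn]; norm_num)).elim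
  · exact (noM4 (G := G) 498 hn (by norm_num) (by norm_num)).elim
  · exact (noB hG 499 2 1 0 (by norm_num) (by norm_num) (by rw [hn]; norm_num)).elim
  · exact (noB hG 2 5 2 3 (by norm_num) (by norm_num) (by rw [hn]; norm_num)).elim

end Cfsg.Agent.Lib.Helper25.O496
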