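import Cfsg.Agent.Lib.Helper25.O496.Base

set_option autoImplicit false
set_option maxHeartbeats 4000000
set_option maxRecDepth 100000

namespace Cfsg.Agent.Lib.Helper25.O496

theorem chunk4 {G : Type*} [Group G] [Finite G] [IsSimpleGroup G] (hG : ¬ IsMulCommutative G)
    (n : ℕ) (hn : Nat.card G = n) (h1 : 501 ≤ n) (h2 : n ≤ 600) :
    n ∈ ([168, 360, 420, 504, 612, 660, 720, 756, 840, 900, 924, 960, 1092] : List ℕ) := by
  interval_cases n
  · exact (noB hG 3 167 1 1 (by norm_num) (by norm_num) (by rw [hn]; norm_num)).elim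
  · exact (noB hG 2 251 1 1 (by norm_num) (by norm_num) (by rw [hn]; norm_num)).elim
  · exact (noB hG 503 2 1 0 (by norm_num) (by norm_num) (by rw [hn]; norm_num)).elim
  · decide
  · exact (noB hG 5 101 1 1 (by norm_num) (by norm_num) (by rw [hn]; norm_num)).elim
  · exact (noM4 (G := G) 506 hn (by norm_num) (by norm_num)).elim
  · exact (noB hG 3 13 1 2 (by norm_num) (by norm_num) (by rw [hn]; norm_num)).elim
  · exact (noB hG 2 127 2 1 (by norm_num) (by norm_num) (by rw [hn]; norm_num)).elim
  · exact (noB hG 509 2 1 0 (by norm_num) (by norm_num) (by rw [hn]; norm_num)).elim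
  · exact (noM4 (G := G) 510 hn (by norm_num) (by norm_num)).elim
  · exact (noB hG 7 73 1 1 (by norm_num) (by norm_num) (by rw [hn]; norm_num)).elim
  · exact (noB hG 2 2 9 0 (by norm_num) (by norm_num) (by rw [hn]; norm_num)).elim
  · exact (noB hG 3 19 3 1 (by norm_num) (by norm_num) (by rw [hn]; norm_num)).elim
  · exact (noB hG 2 257 1 1 (by norm_num) (by norm_num) (by rw [hn]; norm_num)).elim
  · exact (noB hG 5 103 1 1 (by norm_num) (by norm_num) (by rw [hn]; norm_num)).elim
  · exact (noS (G := G) 516 43 2 (by norm_num) hn (by norm_num) (by norm_num) (by norm_num) (by norm_num) (by decide +kernel)).elim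
  · exact (noB hG 11 47 1 1 (by norm_num) (by norm_num) (by rw [hn]; norm_num)).elim
  · exact (noM4 (G := G) 518 hn (by norm_num) (by norm_num)).elim
  · exact (noB hG 3 173 1 1 (by norm_num) (by norm_num) (by rw [hn]; norm_num)).elim
  · exact (noE hG 520 hn (by decide) (by norm_num) (by norm_num) (by norm_num)).elim
  · exact (noB hG 521 2 1 0 (by norm_num) (by norm_num) (by rw [hn]; norm_num)).elim
  · exact (noM4 (G := G) 522 hn (by norm_num) (by norm_num)).elim
  · exact (noB hG 523 2 1 0 (by norm_num) (by norm_num) (by rw [hn]; norm_num)).elim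
  · exact (noB hG 2 131 2 1 (by norm_num) (by norm_num) (by rw [hn]; norm_num)).elim
  · exact (noC73 hG 525 3 hn (by norm_num) (by norm_num) (by norm_num)).elim
  · exact (noB hG 2 263 1 1 (by norm_num) (by norm_num) (by rw [hn]; norm_num)).elim
  · exact (noB hG 17 31 1 1 (by norm_num) (by norm_num) (by rw [hn]; norm_num)).elim
  · exact (noR (G := G) 528 2 3 11 4 1 hn (by norm_num) (by norm_num) (by norm_num) (by norm_num) (by norm_num) (by norm_num) (by norm_num) (by norm_num) (by decide +kernel)).elim
  · exact (noB hG 23 2 2 0 (by norm_num) (by norm_num) (by rw [hn]; norm_num)).elim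
  · exact (noM4 (G := G) 530 hn (by norm_num) (by norm_num)).elim
  · exact (noB hG 3 59 2 1 (by norm_num) (by norm_num) (by rw [hn]; norm_num)).elim
  · exact (noS (G := G) 532 19 2 (by norm_num) hn (by norm_num) (by norm_num) (by norm_num) (by norm_num) (by decide +kernel)).elim
  · exact (noB hG 13 41 1 1 (by norm_num) (by norm_num) (by rw [hn]; norm_num)).elim
  · exact (noM4 (G := G) 534 hn (by norm_num) (by norm_num)).elim
  · exact (noB hG 5 107 1 1 (by norm_num) (by norm_num) (by rw [hn]; norm_num)).elim
  · exact (noB hG 2 67 3 1 (by norm_num) (by norm_num) (by rw [hn]; norm_num)).elim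
  · exact (noB hG 3 179 1 1 (by norm_num) (by norm_num) (by rw [hn]; norm_num)).elim
  · exact (noB hG 2 269 1 1 (by norm_num) (by norm_num) (by rw [hn]; norm_num)).elim
  · exact (noB hG 7 11 2 1 (by norm_num) (by norm_num) (by rw [hn]; norm_num)).elim
  · exact (noR (G := G) 540 2 3 5 2 3 hn (by norm_num) (by norm_num) (by norm_num) (by norm_num) (by norm_num) (by norm_num) (by norm_num) (by norm_num) (by decide +kernel)).elim
  · exact (noB hG 541 2 1 0 (by norm_num) (by norm_num) (by rw [hn]; norm_num)).elim
  · exact (noB hG 2 271 1 1 (by norm_num) (by norm_num) (by rw [hn]; norm_num)).elim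
  · exact (noB hG 3 181 1 1 (by norm_num) (by norm_num) (by rw [hn]; norm_num)).elim
  · exact (noB hG 2 17 5 1 (by norm_num) (by norm_num) (by rw [hn]; norm_num)).elim
  · exact (noB hG 5 109 1 1 (by norm_num) (by norm_num) (by rw [hn]; norm_num)).elim
  · exact (noM4 (G := G) 546 hn (by norm_num) (by norm_num)).elim
  · exact (noB hG 547 2 1 0 (by norm_num) (by norm_num) (by rw [hn]; norm_num)).elim
  · exact (noB hG 2 137 2 1 (by norm_num) (by norm_num) (by rw [hn]; norm_num)).elim
  · exact (noB hG 3 61 2 1 (by norm_num) (by norm_num) (by rw [hn]; norm_num)).elim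
  · exact (noM4 (G := G) 550 hn (by norm_num) (by norm_num)).elim
  · exact (noB hG 19 29 1 1 (by norm_num) (by norm_num) (by rw [hn]; norm_num)).elim
  · exact (noR (G := G) 552 2 23 3 3 1 hn (by norm_num) (by norm_num) (by norm_num) (by norm_num) (by norm_num) (by norm_num) (by norm_num) (by norm_num) (by decide +kernel)).elim
  · exact (noB hG 7 79 1 1 (by norm_num) (by norm_num) (by rw [hn]; norm_num)).elim
  · exact (noB hG 2 277 1 1 (by norm_num) (by norm_num) (by rw [hn]; norm_num)).elim
  · exact (noS (G := G) 555 37 3 (by norm_num) hn (by norm_num) (by norm_num) (by norm_num) (by norm_num) (by decide +kernel)).elim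
  · exact (noB hG 2 139 2 1 (by norm_num) (by norm_num) (by rw [hn]; norm_num)).elim
  · exact (noB hG 557 2 1 0 (by norm_num) (by norm_num) (by rw [hn]; norm_num)).elim
  · exact (noM4 (G := G) 558 hn (by norm_num) (by norm_num)).elim
  · exact (noB hG 13 43 1 1 (by norm_num) (by norm_num) (by rw [hn]; norm_num)).elim
  · exact (noR (G := G) 560 2 5 7 4 1 hn (by norm_num) (by norm_num) (by norm_num) (by norm_num) (by norm_num) (by norm_num) (by norm_num) (by norm_num) (by decide +kernel)).elim
  · exact (noS (G := G) 561 17 3 (by norm_num) hn (by norm_num) (by norm_num) (by norm_num) (by norm_num) (by decide +kernel)).elim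
  · exact (noB hG 2 281 1 1 (by norm_num) (by norm_num) (by rw [hn]; norm_num)).elim
  · exact (noB hG 563 2 1 0 (by norm_num) (by norm_num) (by rw [hn]; norm_num)).elim
  · exact (noS (G := G) 564 47 2 (by norm_num) hn (by norm_num) (by norm_num) (by norm_num) (by norm_num) (by decide +kernel)).elim
  · exact (noB hG 5 113 1 1 (by norm_num) (by norm_num) (by rw [hn]; norm_num)).elim
  · exact (noB hG 2 283 1 1 (by norm_num) (by norm_num) (by rw [hn]; norm_num)).elim
  · exact (noB hG 3 7 4 1 (by norm_num) (by norm_num) (by rw [hn]; norm_num)).elim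
  · exact (noB hG 2 71 3 1 (by norm_num) (by norm_num) (by rw [hn]; norm_num)).elim
  · exact (noB hG 569 2 1 0 (by norm_num) (by norm_num) (by rw [hn]; norm_num)).elim
  · exact (noM4 (G := G) 570 hn (by norm_num) (by norm_num)).elim
  · exact (noB hG 571 2 1 0 (by norm_num) (by norm_num) (by rw [hn]; norm_num)).elim
  · exact (noS (G := G) 572 13 2 (by norm_num) hn (by norm_num) (by norm_num) (by norm_num) (by norm_num) (by decide +kernel)).elim
  · exact (noB hG 3 191 1 1 (by norm_num) (by norm_num) (by rw [hn]; norm_num)).elim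
  · exact (noM4 (G := G) 574 hn (by norm_num) (by norm_num)).elim
  · exact (noB hG 5 23 2 1 (by norm_num) (by norm_num) (by rw [hn]; norm_num)).elim
  · exact (noB hG 2 3 6 2 (by norm_num) (by norm_num) (by rw [hn]; norm_num)).elim
  · exact (noB hG 577 2 1 0 (by norm_num) (by norm_num) (by rw [hn]; norm_num)).elim
  · exact (noB hG 2 17 1 2 (by norm_num) (by norm_num) (by rw [hn]; norm_num)).elim
  · exact (noB hG 3 193 1 1 (by norm_num) (by norm_num) (by rw [hn]; norm_num)).elim
  · exact (noS (G := G) 580 29 2 (by norm_num) hn (by norm_num) (by norm_num) (by norm_num) (by norm_num) (by decide +kernel)).elim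
  · exact (noB hG 7 83 1 1 (by norm_num) (by norm_num) (by rw [hn]; norm_num)).elim
  · exact (noM4 (G := G) 582 hn (by norm_num) (by norm_num)).elim
  · exact (noB hG 11 53 1 1 (by norm_num) (by norm_num) (by rw [hn]; norm_num)).elim
  · exact (noB hG 2 73 3 1 (by norm_num) (by norm_num) (by rw [hn]; norm_num)).elim
  · exact (noS (G := G) 585 13 3 (by norm_num) hn (by norm_num) (by norm_num) (by norm_num) (by norm_num) (by decide +kernel)).elim
  · exact (noB hG 2 293 1 1 (by norm_num) (by norm_num) (by rw [hn]; norm_num)).elim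
  · exact (noB hG 587 2 1 0 (by norm_num) (by norm_num) (by rw [hn]; norm_num)).elim
  · exact (noS (G := G) 588 7 2 (by norm_num) hn (by norm_num) (by norm_num) (by norm_num) (by norm_num) (by decide +kernel)).elim
  · exact (noB hG 19 31 1 1 (by norm_num) (by norm_num) (by rw [hn]; norm_num)).elim
  · exact (noM4 (G := G) 590 hn (by norm_num) (by norm_num)).elim
  · exact (noB hG 3 197 1 1 (by norm_num) (by norm_num) (by rw [hn]; norm_num)).elim
  · exact (noB hG 2 37 4 1 (by norm_num) (by norm_num) (by rw [hn]; norm_num)).elim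
  · exact (noB hG 593 2 1 0 (by norm_num) (by norm_num) (by rw [hn]; norm_num)).elim
  · exact (noM4 (G := G) 594 hn (by norm_num) (by norm_num)).elim
  · exact (noS (G := G) 595 5 7 (by norm_num) hn (by norm_num) (by norm_num) (by norm_num) (by norm_num) (by decide +kernel)).elim
  · exact (noB hG 2 149 2 1 (by norm_num) (by norm_num) (by rw [hn]; norm_num)).elim
  · exact (noB hG 3 199 1 1 (by norm_num) (by norm_num) (by rw [hn]; norm_num)).elim
  · exact (noM4 (G := G) 598 hn (by norm_num) (by norm_num)).elim
  · exact (noB hG 599 2 1 0 (by norm_num) (by norm_num) (by rw [hn]; norm_num)).elim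
  · exact (noS (G := G) 600 5 2 (by norm_num) hn (by norm_num) (by norm_num) (by norm_num) (by norm_num) (by decide +kernel)).elim

end Cfsg.Agent.Lib.Helper25.O496
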